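import Groth.Agent.DCompactPerf.Forward
import Groth.Agent.CompactRetract.Finite
import Groth.Agent.DRingKP.TorAmp
import Mathlib.Algebra.Category.ModuleCat.Biproducts
import Mathlib.CategoryTheory.Preadditive.Yoneda.Basic
import Mathlib.Algebra.Category.ModuleCat.Colimits
import Mathlib.CategoryTheory.Localization.Equivalence

/-!
# Compact objects of `D(R)` are perfect
-/

set_option autoImplicit false
set_option backward.isDefEq.respectTransparency false

universe w v u

open CategoryTheory Limits Opposite Pretriangulated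

namespace Groth.Agent.DCompactPerf

variable {R : Type u} [CommRing R]

/-- `Hom(R, M) = M`. -/
noncomputable def homSelfEquiv (M : ModuleCat.{u} R) : M ≃+ (ModuleCat.of R R ⟶ M) where
  toFun m := ModuleCat.ofHom (LinearMap.toSpanSingleton R M m)
  invFun f := f.hom 1
  left_inv m := one_smul R m
  right_inv f := ModuleCat.hom_ext (LinearMap.ext_ring (one_smul R (f.hom 1)))
  map_add' m m' := ModuleCat.hom_ext (LinearMap.ext fun r => smul_add r m m')

theorem preservesSums_hom_self (ι : Type u) :
    PreservesColimitsOfShape (Discrete ι) (preadditiveCoyoneda.obj (op (ModuleCat.of R R))) := by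
  let e : forget₂ (ModuleCat.{u} R) AddCommGrpCat ≅ preadditiveCoyoneda.obj (op (ModuleCat.of R R)) :=
    NatIso.ofComponents (fun M => AddEquiv.toAddCommGrpIso (homSelfEquiv M))
      (fun {M N} f => AddCommGrpCat.hom_ext (AddMonoidHom.ext fun (m : M) =>
        ModuleCat.hom_ext (LinearMap.ext_ring (by
          show (1 : R) • f.hom m = f.hom ((1 : R) • m)
          rw [one_smul, one_smul]))))
  exact preservesColimitsOfShape_of_natIso e

theorem exists_cover_self (M : ModuleCat.{u} R) :
    ∃ (ι : Type u) (E : ι → ModuleCat.{u} R) (π : ∐ E ⟶ M),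
      (∀ i, E i ∈ ({ModuleCat.of R R} : Set (ModuleCat.{u} R))) ∧ Epi π := by
  refine ⟨M, fun _ => ModuleCat.of R R, Sigma.desc fun m => ModuleCat.ofHom (LinearMap.toSpanSingleton R M m),
    fun _ => rfl, (ModuleCat.epi_iff_surjective _).2 fun m =>
      ⟨(Sigma.ι (fun _ : (M : Type u) => ModuleCat.of R R) m).hom (1 : R), ?_⟩⟩
  rw [← LinearMap.comp_apply, ← ModuleCat.hom_comp, Sigma.ι_desc]
  exact one_smul R m

section Transfer

variable [hd : HasDerivedCategory.{u} (ModuleCat.{u} R)]

/-- A compact object of the small model is a retract of a bounded complex of finite free modules. -/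
theorem exists_retract_small (K : DerivedCategory.{u} (ModuleCat.{u} R))
    (hK : letI : HasCoproducts.{u} (DerivedCategory.{u} (ModuleCat.{u} R)) := fun J =>
        BrownDerived.hasCoproducts (B := ModuleCat.{u} R) J
      CohDer.IsCompactObject K) :
    ∃ (L : CochainComplex (ModuleCat.{u} R) ℤ) (a b : ℤ), (∀ i : ℤ, i < a ∨ b < i → IsZero (L.X i)) ∧
      (∀ i : ℤ, Module.Finite R (L.X i) ∧ Module.Projective R (L.X i)) ∧
      Nonempty (Retract K (DerivedCategory.Q.obj L)) := by
  letI : HasCoproducts.{u} (DerivedCategory.{u} (ModuleCat.{u} R)) := fun J =>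
    BrownDerived.hasCoproducts (B := ModuleCat.{u} R) J
  obtain ⟨L, a, b, hb, hL, hr⟩ := CompactRetract.exists_finite_retract (S := {ModuleCat.of R R})
    (exists_cover_self (R := R)) (fun E hE ι => by obtain rfl := hE; exact preservesSums_hom_self ι) K hK
  refine ⟨L, a, b, hb, fun i => ?_, hr⟩
  obtain ⟨n, E, hE, ⟨e⟩⟩ := hL i
  obtain rfl : E = fun _ => ModuleCat.of R R := funext fun j => hE j
  let eL := (e ≪≫ ModuleCat.biproductIsoPi _).toLinearEquiv
  haveI : Module.Finite R (Fin n → R) := inferInstance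
  exact ⟨Module.Finite.equiv eL.symm, Module.Projective.of_equiv eL.symm⟩

end Transfer

section Standard

attribute [local instance] HasDerivedCategory.standard

theorem isPerfect_of_retract {K L : Dual.D R} (r : Retract K L) (hL : DRing.IsPerfect R L) :
    DRing.IsPerfect R K := by
  haveI : Mono r.i := SplitMono.mono ⟨r.r, r.retract⟩
  obtain ⟨C, p, δ, hT⟩ := distinguished_cocone_triangle r.i
  haveI : HasBinaryBiproduct K C := inferInstance
  obtain ⟨e, -, -⟩ := exists_iso_binaryBiproduct_of_distTriang _ hT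
    ((Triangle.mor₃_eq_zero_iff_mono₁ _ hT).2 (inferInstanceAs (Mono r.i)))
  exact (DRingKP.isPerfect_biprod K C (PerfLocal.isPerfect_of_iso e hL)).1

end Standard

/-- Transfer from a model of the derived category with small morphisms to any other one. -/
theorem retract_of_compact [hd : HasDerivedCategory.{u} (ModuleCat.{u} R)]
    {D₂ : Type w} [Category.{u + 1} D₂] [Preadditive D₂] [HasFiniteProducts D₂]
    (Q2 : CochainComplex (ModuleCat.{u} R) ℤ ⥤ D₂)
    [Q2.IsLocalization (HomologicalComplex.quasiIso (ModuleCat.{u} R) (ComplexShape.up ℤ))]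
    (K : D₂)
    (hK : ∀ (I : Type u) (E : I → D₂) [HasCoproduct fun i : ULift.{u + 1} I => E i.down],
        Function.Surjective (CohDer.homSumToHomCoprod K (fun i : ULift.{u + 1} I => E i.down))) :
    ∃ (L : CochainComplex (ModuleCat.{u} R) ℤ) (a b : ℤ), (∀ i : ℤ, i < a ∨ b < i → IsZero (L.X i)) ∧
      (∀ i : ℤ, Module.Finite R (L.X i) ∧ Module.Projective R (L.X i)) ∧
      Nonempty (Retract K (Q2.obj L)) := by
  let W := HomologicalComplex.quasiIso (ModuleCat.{u} R) (ComplexShape.up ℤ)
  let Q1 : CochainComplex (ModuleCat.{u} R) ℤ ⥤ DerivedCategory.{u} (ModuleCat.{u} R) := DerivedCategory.Q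
  haveI : Q1.IsLocalization W := inferInstanceAs ((DerivedCategory.Q (C := ModuleCat.{u} R)).IsLocalization W)
  haveI : Q2.IsLocalization W := inferInstanceAs (Q2.IsLocalization (HomologicalComplex.quasiIso (ModuleCat.{u} R) (ComplexShape.up ℤ)))
  let Φ := Localization.uniq Q1 Q2 W
  let eQ : Q1 ⋙ Φ.functor ≅ Q2 := Localization.compUniqFunctor Q1 Q2 W
  letI : HasCoproducts.{u} (DerivedCategory.{u} (ModuleCat.{u} R)) := fun J =>
    BrownDerived.hasCoproducts (B := ModuleCat.{u} R) J
  haveI : Φ.functor.Additive := Functor.additive_of_preserves_binary_products _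
  let K' := Φ.inverse.obj K
  let eK : Φ.functor.obj K' ≅ K := Φ.counitIso.app K
  have hK' : CohDer.IsCompactObject K' := by
    intro J X
    refine ⟨homSum_injective _ _, fun f => ?_⟩
    let E : J → D₂ := fun j => Φ.functor.obj (X j)
    let c : Cofan fun i : ULift.{u + 1} J => E i.down :=
      Cofan.mk (Φ.functor.obj (∐ X)) fun i => Φ.functor.map (Sigma.ι X i.down)
    have hcJ := isColimitCofanMkObjOfIsColimit Φ.functor _ _ (coproductIsCoproduct X)
    have hc : IsColimit c := mkCofanColimit c (fun s => Cofan.IsColimit.desc hcJ fun j => s.inj ⟨j⟩)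
      (fun s i => Cofan.IsColimit.fac hcJ _ i.down)
      (fun s m hm => Cofan.IsColimit.hom_ext hcJ _ _ fun j =>
        (hm ⟨j⟩).trans (Cofan.IsColimit.fac hcJ (fun j => s.inj ⟨j⟩) j).symm)
    haveI : HasCoproduct fun i : ULift.{u + 1} J => E i.down := ⟨⟨⟨c, hc⟩⟩⟩
    let e := (coproductIsCoproduct fun i : ULift.{u + 1} J => E i.down).coconePointUniqueUpToIso hc
    have he : ∀ i, Sigma.ι (fun i : ULift.{u + 1} J => E i.down) i ≫ e.hom = Φ.functor.map (Sigma.ι X i.down) :=
      fun i => IsColimit.comp_coconePointUniqueUpToIso_hom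
        (coproductIsCoproduct fun i : ULift.{u + 1} J => E i.down) hc ⟨i⟩
    obtain ⟨y, hy⟩ := hK J E (eK.inv ≫ Φ.functor.map f ≫ e.inv)
    suffices h : ∀ y, ∃ x, Φ.functor.map (CohDer.homSumToHomCoprod K' X x) =
        eK.hom ≫ CohDer.homSumToHomCoprod K (fun i : ULift.{u + 1} J => E i.down) y ≫ e.hom by
      obtain ⟨x, hx⟩ := h y
      refine ⟨x, Φ.functor.map_injective ?_⟩
      rw [hx, hy, Category.assoc, Category.assoc, e.inv_hom_id]
      erw [Category.comp_id]
      exact eK.hom_inv_id_assoc _
    classical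
    intro y
    induction y using DirectSum.induction_on with
    | zero => exact ⟨0, by simp⟩
    | of i φ =>
      obtain ⟨p, hp⟩ := Φ.functor.map_surjective (eK.hom ≫ φ)
      refine ⟨DirectSum.of (fun j => K' ⟶ X j) i.down p, ?_⟩
      simp only [CohDer.homSumToHomCoprod]
      erw [DirectSum.toAddMonoid_of, DirectSum.toAddMonoid_of]
      show Φ.functor.map (p ≫ Sigma.ι X i.down) = eK.hom ≫ (φ ≫ Sigma.ι (fun i : ULift.{u + 1} J => E i.down) i) ≫ e.hom
      rw [Functor.map_comp, hp, Category.assoc, Category.assoc, he]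
    | add y y' hy hy' =>
      obtain ⟨x, hx⟩ := hy
      obtain ⟨x', hx'⟩ := hy'
      exact ⟨x + x', by simp [hx, hx', Preadditive.add_comp, Preadditive.comp_add]⟩
  obtain ⟨L, a, b, hb, hL, ⟨r⟩⟩ := exists_retract_small K' hK'
  exact ⟨L, a, b, hb, hL, ⟨((Retract.ofIso eK.symm).trans (r.map Φ.functor)).trans (Retract.ofIso (eQ.app L))⟩⟩

attribute [local instance] HasDerivedCategory.standard in
theorem isPerfect_iff (K : Dual.D R) :
    DRing.IsPerfect R K ↔ ∀ (I : Type u) (E : I → Dual.D R) [HasCoproduct fun i : ULift.{u + 1} I => E i.down],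
      Function.Bijective (CohDer.homSumToHomCoprod K (fun i : ULift.{u + 1} I => E i.down)) := by
  refine ⟨fun h I E _ => bijective_homSum h I E, fun h => ?_⟩
  obtain ⟨L, a, b, hb, hL, ⟨r⟩⟩ := @retract_of_compact R _ (BrownDerived.smallDerived (ModuleCat.{u} R))
    (Dual.D R) _ _ inferInstance DerivedCategory.Q inferInstance K fun I E _ => (h I E).2
  exact isPerfect_of_retract r ⟨L, a, b, hb, hL, ⟨Iso.refl _⟩⟩

end Groth.Agent.DCompactPerf
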