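import Groth.Prelude.Def_DRing2
import Groth.Prelude.Def_CohDer
import Groth.Agent.BrownDerived.Basic
import Groth.Agent.DQCoh.Coprod
import Groth.Agent.DRingKP.Pseudo
import Groth.Agent.PerfLocal.Perfect
import Mathlib.Order.Interval.Finset.Basic
import Mathlib.Data.Int.Interval

/-!
# Perfect objects of `D(R)` commute with direct sums
-/

set_option autoImplicit false
set_option backward.isDefEq.respectTransparency false

universe w v u

open CategoryTheory Limits

attribute [local instance] HasDerivedCategory.standard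

namespace Groth.Agent.DCompactPerf

/-- In a preadditive category the map from the sum of the Hom groups to Hom into a coproduct is injective. -/
theorem homSum_injective {D : Type u} [Category.{v} D] [Preadditive D] (K : D) {ι : Type v} (X : ι → D)
    [HasCoproduct X] : Function.Injective (CohDer.homSumToHomCoprod K X) := by
  classical
  let π : ∀ t, (∐ X) ⟶ X t := fun t => Sigma.desc fun t' => if h : t' = t then eqToHom (by rw [h]) else 0
  have key : ∀ a t, CohDer.homSumToHomCoprod K X a ≫ π t = a t := by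
    intro a t
    induction a using DirectSum.induction_on with
    | zero => rw [map_zero, zero_comp]; rfl
    | of t' φ =>
      simp only [CohDer.homSumToHomCoprod]
      erw [DirectSum.toAddMonoid_of]
      show (φ ≫ Sigma.ι X t') ≫ π t = _
      rw [Category.assoc, Sigma.ι_desc]
      by_cases h : t' = t
      · subst h; simp
      · simp [dif_neg h, DirectSum.of_eq_of_ne _ _ _ (Ne.symm h)]
    | add a b ha hb => rw [map_add, Preadditive.add_comp, ha, hb]; rfl
  exact fun a b hab => DFinsupp.ext fun t => by rw [← key a t, ← key b t, hab]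

/-- A finite sum is in the image. -/
theorem homSum_mk {D : Type u} [Category.{v} D] [Preadditive D] (K : D) {ι : Type v} (X : ι → D)
    [HasCoproduct X] (s : Finset ι) (p : ∀ t, K ⟶ X t) :
    ∃ a, CohDer.homSumToHomCoprod K X a = ∑ t ∈ s, p t ≫ Sigma.ι X t := by
  classical
  refine ⟨∑ t ∈ s, DirectSum.of (fun t => K ⟶ X t) t (p t), ?_⟩
  rw [map_sum]
  refine Finset.sum_congr rfl fun t _ => ?_
  simp only [CohDer.homSumToHomCoprod]
  erw [DirectSum.toAddMonoid_of]
  rfl

variable {R : Type u} [CommRing R]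

instance hasColimitsOfShape_ulift (I : Type u) :
    HasColimitsOfShape (Discrete (ULift.{u + 1} I)) (ModuleCat.{u} R) :=
  hasColimitsOfShape_of_equivalence (Discrete.equivalence Equiv.ulift.symm : Discrete I ≌ _)

theorem exists_finset_fixed {I : Type u} (K₀ : ULift.{u + 1} I → DRing.Cx R) (j : ℤ) (x : (∐ K₀).X j) :
    ∃ s : Finset (ULift.{u + 1} I), ∀ s', s ⊆ s' → ∀ π : ∀ t, (∐ K₀) ⟶ K₀ t,
      (∀ t, Sigma.ι K₀ t ≫ π t = 𝟙 _) → (∀ t t', t' ≠ t → Sigma.ι K₀ t' ≫ π t = 0) →
      ((∑ t ∈ s', π t ≫ Sigma.ι K₀ t).f j).hom x = x := by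
  classical
  have hc := isColimitMapCoconeCofanMkEquiv (HomologicalComplex.eval (ModuleCat.{u} R) (ComplexShape.up ℤ) j)
    K₀ (fun t => Sigma.ι K₀ t) (isColimitOfPreserves _ (coproductIsCoproduct K₀))
  have htop : (⨆ t, LinearMap.range ((Sigma.ι K₀ t).f j).hom) = ⊤ := by
    rw [← Submodule.ker_mkQ (⨆ t, LinearMap.range ((Sigma.ι K₀ t).f j).hom), LinearMap.ker_eq_top]
    have : ModuleCat.ofHom (Submodule.mkQ (⨆ t, LinearMap.range ((Sigma.ι K₀ t).f j).hom)) = 0 :=
      Cofan.IsColimit.hom_ext hc _ _ fun t => by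
        refine ModuleCat.hom_ext (LinearMap.ext fun y => ?_)
        simp only [ModuleCat.hom_comp, LinearMap.comp_apply, ModuleCat.hom_ofHom, Submodule.mkQ_apply,
          ModuleCat.hom_zero, LinearMap.zero_apply]
        exact (Submodule.Quotient.mk_eq_zero _).2 (Submodule.mem_iSup_of_mem t ⟨y, rfl⟩)
    exact congrArg ModuleCat.Hom.hom this
  refine Submodule.iSup_induction (fun t => LinearMap.range ((Sigma.ι K₀ t).f j).hom)
    (motive := fun x => ∃ s : Finset (ULift.{u + 1} I), ∀ s', s ⊆ s' → ∀ π : ∀ t, (∐ K₀) ⟶ K₀ t,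
      (∀ t, Sigma.ι K₀ t ≫ π t = 𝟙 _) → (∀ t t', t' ≠ t → Sigma.ι K₀ t' ≫ π t = 0) →
      ((∑ t ∈ s', π t ≫ Sigma.ι K₀ t).f j).hom x = x)
    (htop.ge (Submodule.mem_top (x := x))) ?_ ⟨∅, fun _ _ _ _ _ => map_zero _⟩ ?_
  · rintro t _ ⟨z, rfl⟩
    refine ⟨{t}, fun s' hs π h1 h2 => ?_⟩
    show ((Sigma.ι K₀ t ≫ ∑ t' ∈ s', π t' ≫ Sigma.ι K₀ t').f j).hom z = _
    rw [Preadditive.comp_sum, Finset.sum_eq_single_of_mem t (hs (Finset.mem_singleton_self t))
      (fun t' _ ht' => by rw [← Category.assoc, h2 t' t (Ne.symm ht'), zero_comp]), ← Category.assoc, h1,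
      Category.id_comp]
  · rintro x y ⟨s, hs⟩ ⟨s₂, hs₂⟩
    exact ⟨s ∪ s₂, fun s' h π h1 h2 => by
      rw [map_add, hs s' (Finset.union_subset_left h) π h1 h2, hs₂ s' (Finset.union_subset_right h) π h1 h2]⟩

theorem bijective_homSum {K : Dual.D R} (hK : DRing.IsPerfect R K) (I : Type u) (E : I → Dual.D R)
    [HasCoproduct fun i : ULift.{u + 1} I => E i.down] :
    Function.Bijective (CohDer.homSumToHomCoprod K (fun i : ULift.{u + 1} I => E i.down)) := by
  classical
  refine ⟨homSum_injective _ _, fun α => ?_⟩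
  obtain ⟨F, a, b, hF, hp, ⟨eK⟩⟩ := hK
  haveI : F.IsKProjective := DRingKP.isKProjective_of_finiteProjective b (fun i hi => hF i (Or.inr hi)) hp
  let X : ULift.{u + 1} I → Dual.D R := fun i => E i.down
  let K₀ := fun t => (DerivedCategory.Q (C := ModuleCat.{u} R)).objPreimage (X t)
  let e : ∀ t, DerivedCategory.Q.obj (K₀ t) ≅ X t := fun t => DerivedCategory.Q.objObjPreimageIso (X t)
  obtain ⟨hc⟩ := DQCoh.nonempty_isColimit_Q_coprod (A := ModuleCat.{u} R) BrownDerived.hKinj K₀
  let φ : DerivedCategory.Q.obj (∐ K₀) ⟶ ∐ X := Cofan.IsColimit.desc hc fun t => (e t).hom ≫ Sigma.ι X t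
  let ψ : (∐ X) ⟶ DerivedCategory.Q.obj (∐ K₀) :=
    Sigma.desc fun t => (e t).inv ≫ DerivedCategory.Q.map (Sigma.ι K₀ t)
  have hφ : ∀ t, DerivedCategory.Q.map (Sigma.ι K₀ t) ≫ φ = (e t).hom ≫ Sigma.ι X t := fun t =>
    Cofan.IsColimit.fac hc _ t
  have hψφ : ψ ≫ φ = 𝟙 _ := Sigma.hom_ext _ _ fun t => by simp [ψ, hφ t]
  obtain ⟨g, hg⟩ := PerfLocal.exists_lift (eK.hom ≫ α ≫ ψ)
  let π : ∀ t, (∐ K₀) ⟶ K₀ t := fun t => Sigma.desc fun t' => if h : t' = t then eqToHom (by rw [h]) else 0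
  choose gens hgens using fun j : ℤ => ((hp j).1).fg_top
  choose sx hsx using fun (j : ℤ) (x : F.X j) => exists_finset_fixed K₀ j ((g.f j).hom x)
  let S : Finset (ULift.{u + 1} I) := (Finset.Icc a b).biUnion fun j => (gens j).biUnion (sx j)
  have hgS : g = g ≫ ∑ t ∈ S, π t ≫ Sigma.ι K₀ t := by
    refine HomologicalComplex.hom_ext _ _ fun j => ?_
    by_cases hj : j ∈ Finset.Icc a b
    · refine ModuleCat.hom_ext (LinearMap.ext_on (hgens j) fun x hx => ?_)
      refine (hsx j x S ?_ π (fun t => by simp [π]) (fun t t' h => by simp [π, h])).symm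
      exact (Finset.subset_biUnion_of_mem (sx j) hx).trans
        (Finset.subset_biUnion_of_mem (fun j => (gens j).biUnion (sx j)) hj)
    · refine (hF j ?_).eq_of_src _ _
      simp only [Finset.mem_Icc] at hj
      omega
  obtain ⟨x, hx⟩ := homSum_mk K X S (fun t => eK.inv ≫ DerivedCategory.Q.map (g ≫ π t) ≫ (e t).hom)
  refine ⟨x, hx.trans ?_⟩
  have hα : α = eK.inv ≫ DerivedCategory.Q.map g ≫ φ := by
    rw [hg, Category.assoc, Category.assoc, hψφ, Category.comp_id, eK.inv_hom_id_assoc]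
  rw [hα]
  conv_rhs => rw [hgS]
  simp only [Preadditive.comp_sum, Functor.map_sum, Preadditive.sum_comp, Functor.map_comp, Category.assoc, hφ]

end Groth.Agent.DCompactPerf
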